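import Cfsg.Agent.EqLemmas

/-!
# Subgroups with normal Sylow `p`-subgroup and cyclic quotient

* `Cond`, `cond_sup`, `Cond.exists_gen`: `H = S ⟨x⟩`, `x` a `p'`-element normalizing the `p`-group `S`
* `isCyclic_sup`, `card_sup_zpowers`
-/

set_option autoImplicit false
set_option linter.style.haveILetI false

namespace Cfsg.Agent.PByCyclic

variable {G : Type*} [Group G] [Finite G] {p : ℕ} [Fact p.Prime]

/-- The Sylow `p`-subgroup of `H` is normal with cyclic quotient. -/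
def Cond (p : ℕ) (H : Subgroup G) : Prop :=
  (∀ S : Sylow p ↥H, (S : Subgroup ↥H).Normal) ∧
    ∀ (S : Sylow p ↥H) [(S : Subgroup ↥H).Normal], IsCyclic (↥H ⧸ (S : Subgroup ↥H))

theorem disjoint_zpowers {S : Subgroup G} (hS : IsPGroup p S) {x : G} (hx : ¬ p ∣ orderOf x) :
    S ⊓ Subgroup.zpowers x = ⊥ := by
  obtain ⟨k, hk⟩ := IsPGroup.iff_card.1 hS
  refine Subgroup.inf_eq_bot_of_coprime ?_
  rw [hk, Nat.card_zpowers]
  exact ((Nat.Prime.coprime_iff_not_dvd Fact.out).2 hx).pow_left k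

theorem card_sup_zpowers {S : Subgroup G} (hS : IsPGroup p S) {x : G}
    (hxS : x ∈ Subgroup.normalizer (S : Set G)) (hx : ¬ p ∣ orderOf x) :
    Nat.card ↥(S ⊔ Subgroup.zpowers x) = Nat.card S * orderOf x := by
  have hle : Subgroup.zpowers x ≤ Subgroup.normalizer (S : Set G) := Subgroup.zpowers_le.2 hxS
  rw [← Nat.card_zpowers, ← Nat.card_prod]
  refine (Nat.card_congr (Equiv.ofBijective
    (fun a : S × Subgroup.zpowers x => (⟨a.1.1 * a.2.1,
      Subgroup.mul_mem_sup a.1.2 a.2.2⟩ : ↥(S ⊔ Subgroup.zpowers x))) ⟨?_, ?_⟩)).symm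
  · rintro ⟨a, b⟩ ⟨c, d⟩ h
    have h' : (a : G) * b = c * d := congrArg Subtype.val h
    have h1 : (c : G)⁻¹ * a = d * (b : G)⁻¹ := by
      rw [inv_mul_eq_iff_eq_mul, ← mul_assoc, ← h', mul_inv_cancel_right]
    have h2 : (c : G)⁻¹ * a ∈ S ⊓ Subgroup.zpowers x :=
      ⟨S.mul_mem (S.inv_mem c.2) a.2, h1 ▸ Subgroup.mul_mem _ d.2 (Subgroup.inv_mem _ b.2)⟩
    rw [disjoint_zpowers hS hx, Subgroup.mem_bot] at h2
    rw [h2, eq_comm, mul_inv_eq_one] at h1
    rw [inv_mul_eq_one] at h2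
    exact Prod.ext (Subtype.ext h2.symm) (Subtype.ext h1.symm)
  · rintro ⟨y, hy⟩
    rw [← SetLike.mem_coe, Subgroup.coe_mul_of_right_le_normalizer_left S _ hle] at hy
    obtain ⟨a, ha, b, hb, rfl⟩ := hy
    exact ⟨(⟨a, ha⟩, ⟨b, hb⟩), rfl⟩

/-- `S ⟨x⟩` satisfies the condition. -/
theorem cond_sup {S : Subgroup G} (hS : IsPGroup p S) {x : G}
    (hxS : x ∈ Subgroup.normalizer (S : Set G)) (hx : ¬ p ∣ orderOf x) : Cond p (S ⊔ Subgroup.zpowers x) := by
  set H := S ⊔ Subgroup.zpowers x with hH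
  have hn : (S.subgroupOf H).Normal := Subgroup.normal_subgroupOf_of_le_normalizer
    (sup_le Subgroup.le_normalizer (Subgroup.zpowers_le.2 hxS))
  have hp : IsPGroup p (S.subgroupOf H) := hS.comap_of_injective H.subtype H.subtype_injective
  have key : ∀ T : Sylow p H, (T : Subgroup H) = S.subgroupOf H := by
    intro T
    have hle := hp.le_sylow_of_normal T
    refine (Subgroup.eq_of_le_of_card_ge hle ?_).symm
    obtain ⟨k, hk⟩ := IsPGroup.iff_card.1 T.isPGroup'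
    have hdvd : Nat.card (T : Subgroup H) ∣ Nat.card S * orderOf x :=
      card_sup_zpowers hS hxS hx ▸ Subgroup.card_subgroup_dvd_card _
    rw [hk] at hdvd
    rw [Nat.card_congr (Subgroup.subgroupOfEquivOfLe (le_sup_left : S ≤ H)).toEquiv, hk]
    exact Nat.le_of_dvd Nat.card_pos
      ((((Nat.Prime.coprime_iff_not_dvd Fact.out).2 hx).pow_left k).dvd_of_dvd_mul_right hdvd)
  refine ⟨fun T => key T ▸ hn, fun T hT => ?_⟩
  rw [isCyclic_iff_exists_zpowers_eq_top]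
  refine ⟨QuotientGroup.mk (⟨x, Subgroup.mem_sup_right (Subgroup.mem_zpowers x)⟩ : H), top_unique fun q _ => ?_⟩
  obtain ⟨⟨y, hy⟩, rfl⟩ := QuotientGroup.mk_surjective q
  rw [hH, ← SetLike.mem_coe, Subgroup.coe_mul_of_right_le_normalizer_left S _ (Subgroup.zpowers_le.2 hxS)] at hy
  obtain ⟨a, ha, b, ⟨j, rfl⟩, rfl⟩ := hy
  refine ⟨j, ?_⟩
  show QuotientGroup.mk (⟨x, _⟩ : H) ^ j = _
  rw [← QuotientGroup.mk_zpow, QuotientGroup.eq, key T, Subgroup.mem_subgroupOf]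
  simp only [Subgroup.coe_mul, Subgroup.coe_inv, Subgroup.coe_zpow]
  have hn' : x ^ (-j) ∈ Subgroup.normalizer (S : Set G) := Subgroup.zpow_mem _ hxS _
  have := (Subgroup.mem_normalizer_iff.1 hn' a).1 ha
  simpa [zpow_neg, mul_assoc] using this

theorem Cond.exists_gen {H : Subgroup G} (h : Cond p H) :
    ∃ (S : Subgroup G) (x : G), IsPGroup p S ∧ x ∈ Subgroup.normalizer (S : Set G) ∧ ¬ p ∣ orderOf x ∧
      H = S ⊔ Subgroup.zpowers x := by
  obtain ⟨T⟩ := (inferInstance : Nonempty (Sylow p H))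
  haveI := h.1 T
  obtain ⟨q, hq⟩ := isCyclic_iff_exists_zpowers_eq_top.1 (h.2 T)
  obtain ⟨y, rfl⟩ := QuotientGroup.mk_surjective q
  obtain ⟨k, m, hm, hkm⟩ :=
    Nat.exists_eq_pow_mul_and_not_dvd (orderOf_pos y).ne' p (Fact.out : p.Prime).ne_one
  set x := y ^ p ^ k with hx
  have hord : orderOf x = m := by
    rw [hx, orderOf_pow' y (pow_ne_zero _ (Fact.out : p.Prime).ne_zero), hkm, Nat.gcd_mul_right_left,
      Nat.mul_div_cancel_left _ (pow_pos (Fact.out : p.Prime).pos k)]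
  refine ⟨(T : Subgroup H).map H.subtype, x, T.isPGroup'.map _, ?_, ?_, le_antisymm (fun g hg => ?_) (sup_le ?_ ?_)⟩
  · refine Subgroup.le_normalizer_map H.subtype ⟨x, ?_, rfl⟩
    rw [Subgroup.normalizer_eq_top]
    exact Subgroup.mem_top _
  · rw [Subgroup.orderOf_coe, hord]
    exact hm
  · -- the image of `x` still generates
    have hgcd : (orderOf ((y : H) : H ⧸ (T : Subgroup H))).Coprime (p ^ k) := by
      have hdvd : orderOf ((y : H) : H ⧸ (T : Subgroup H)) ∣ (T : Subgroup H).index :=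
        orderOf_dvd_natCard _
      exact (((Nat.Prime.coprime_iff_not_dvd Fact.out).2 T.not_dvd_index).symm.coprime_dvd_left hdvd).pow_right k
    have hgen : Subgroup.zpowers ((x : H) : H ⧸ (T : Subgroup H)) = ⊤ := by
      rw [← hq, hx, QuotientGroup.mk_pow]
      refine Subgroup.eq_of_le_of_card_ge (Subgroup.zpowers_le.2 (Subgroup.npow_mem_zpowers _ _)) ?_
      rw [Nat.card_zpowers, Nat.card_zpowers, orderOf_pow' _ (pow_ne_zero _ (Fact.out : p.Prime).ne_zero),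
        hgcd.gcd_eq_one, Nat.div_one]
    obtain ⟨j, hj⟩ : ((⟨g, hg⟩ : H) : H ⧸ (T : Subgroup H)) ∈ Subgroup.zpowers ((x : H) : H ⧸ (T : Subgroup H)) :=
      hgen.ge trivial
    replace hj : ((⟨g, hg⟩ : H) : H ⧸ (T : Subgroup H)) = ((x ^ j : H) : H ⧸ (T : Subgroup H)) := by
      rw [← hj]; rfl
    rw [eq_comm, QuotientGroup.eq] at hj
    have h1 : ((x ^ j : H) : G) * (((x ^ j)⁻¹ * ⟨g, hg⟩ : H) : G) = g := by simp
    rw [← h1]
    exact Subgroup.mul_mem _ (Subgroup.mem_sup_right ⟨j, by simp⟩) (Subgroup.mem_sup_left ⟨_, hj, rfl⟩)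
  · exact Subgroup.map_subtype_le _
  · exact Subgroup.zpowers_le.2 x.2

theorem isCyclic_sup {S : Subgroup G} (hS : IsPGroup p S) [IsCyclic S] {x : G} (hx : ¬ p ∣ orderOf x)
    (hcomm : ∀ s ∈ S, Commute s x) : IsCyclic ↥(S ⊔ Subgroup.zpowers x) := by
  have hxS : x ∈ Subgroup.normalizer (S : Set G) := Subgroup.mem_normalizer_iff.2 fun s => by
    refine ⟨fun hs => ?_, fun hs => ?_⟩
    · rw [← (hcomm s hs).eq, mul_inv_cancel_right]; exact hs
    · have h2 := (hcomm _ hs).eq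
      have h1 : x * s * x⁻¹ = s := by
        rw [← mul_right_inj x]
        calc x * (x * s * x⁻¹) = x * s * x⁻¹ * x := h2.symm
          _ = x * s := by group
      exact h1 ▸ hs
  obtain ⟨⟨s, hs⟩, hgen⟩ := isCyclic_iff_exists_zpowers_eq_top.1 (inferInstance : IsCyclic S)
  have hcard : orderOf s = Nat.card S := by
    rw [← Subgroup.orderOf_mk s hs, ← Nat.card_zpowers, hgen, Subgroup.card_top]
  refine isCyclic_of_orderOf_eq_card
    (⟨s * x, Subgroup.mul_mem_sup hs (Subgroup.mem_zpowers x)⟩ : ↥(S ⊔ Subgroup.zpowers x)) ?_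
  rw [Subgroup.orderOf_mk, card_sup_zpowers hS hxS hx, (hcomm s hs).orderOf_mul_eq_mul_orderOf_of_coprime, hcard]
  obtain ⟨k, hk⟩ := IsPGroup.iff_card.1 hS
  rw [hcard, hk]
  exact ((Nat.Prime.coprime_iff_not_dvd Fact.out).2 hx).pow_left k

end Cfsg.Agent.PByCyclic
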